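import Mathlib
import Cfsg.Prelude.Def_Solvable
import Cfsg.Prelude.Def_PLocal
import Cfsg.Agent.Lib.Helper11.NormStable
import Cfsg.Agent.Lib.Helper66.PP.T

set_option autoImplicit false

/-!
# Lemma (F1) for the primitive-pair argument (S3753)

`H` finite with commutative `2`-subgroups, `p` odd, `C_H(O_p(H)) ≤ O_p(H)`.  Then every element
(subgroup) acting quadratically on `O_p(H)` lies in `O_p(H)`.
-/

namespace Cfsg.Agent.Lib.Helper66.PP

open scoped commutatorElement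
open Cfsg.Agent.Lib.Helper11

universe u

/-- The preimage of `O_p(H/C)` is a `p`-group when `C ≤ O_p(H)`; hence it lies in `O_p(H)`. -/
theorem comap_pCore_quot_le {H : Type u} [Group H] [Finite H] {p : ℕ} [Fact p.Prime]
    (C : Subgroup H) [C.Normal] (hC : C ≤ Cfsg.pCore p H) :
    (Cfsg.pCore p (H ⧸ C)).comap (QuotientGroup.mk' C) ≤ Cfsg.pCore p H := by
  have hQp : IsPGroup p (Cfsg.pCore p H) := pCore_isPGroup_pp p
  have hRn : (Cfsg.pCore p (H ⧸ C)).Normal := pCore_normal_pp p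
  have hRp : IsPGroup p (Cfsg.pCore p (H ⧸ C)) := pCore_isPGroup_pp p
  refine le_sSup ⟨hRn.comap _, ?_⟩
  rintro ⟨r, hr⟩
  obtain ⟨k, hk⟩ := hRp ⟨QuotientGroup.mk' C r, hr⟩
  have hk' : (QuotientGroup.mk' C r) ^ p ^ k = 1 := congrArg Subtype.val hk
  rw [← map_pow, QuotientGroup.mk'_apply, QuotientGroup.eq_one_iff] at hk'
  obtain ⟨j, hj⟩ := hQp ⟨r ^ p ^ k, hC hk'⟩
  have hj' : (r ^ p ^ k) ^ p ^ j = 1 := congrArg Subtype.val hj
  refine ⟨k + j, Subtype.ext ?_⟩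
  show r ^ p ^ (k + j) = 1
  rw [pow_add, pow_mul]
  exact hj'

/-- **(F1), element form, ambient group a type.** -/
theorem lemF1_elt {H : Type u} [Group H] [Finite H] {p : ℕ} [Fact p.Prime] (hp : p ≠ 2)
    (h2 : TwoAb (⊤ : Subgroup H))
    (hc : Subgroup.centralizer (Cfsg.pCore p H : Set H) ≤ Cfsg.pCore p H)
    (a : H)
    (hq : ⁅⁅Cfsg.pCore p H, Subgroup.zpowers a⁆, Subgroup.zpowers a⁆ = ⊥) :
    a ∈ Cfsg.pCore p H := by
  have hQn : (Cfsg.pCore p H).Normal := pCore_normal_pp p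
  have hQp : IsPGroup p (Cfsg.pCore p H) := pCore_isPGroup_pp p
  have hst := isPStableOn_pGroup_of_noSL2 hp (noSL2_of_twoAb hp h2) (Cfsg.pCore p H) hQp
  have h1 := hst a hq
  exact comap_pCore_quot_le _ hc h1

/-- **(F1), subgroup form inside a subgroup `M` of `G`.** -/
theorem lemF1 {G : Type u} [Group G] [Finite G] {p : ℕ} [Fact p.Prime] (hp : p ≠ 2)
    (M : Subgroup G) (h2 : TwoAb M)
    (hc : Subgroup.centralizer (Cfsg.pCore p ↥M : Set ↥M) ≤ Cfsg.pCore p ↥M)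
    (X : Subgroup G) (hXM : X ≤ M)
    (hq : ⁅⁅(Cfsg.pCore p ↥M).map M.subtype, X⁆, X⁆ = ⊥) :
    X ≤ (Cfsg.pCore p ↥M).map M.subtype := by
  intro x hx
  refine ⟨⟨x, hXM hx⟩, ?_, rfl⟩
  apply lemF1_elt hp h2.subtype hc
  rw [← Subgroup.map_eq_bot_iff_of_injective _ M.subtype_injective, Subgroup.map_commutator,
    Subgroup.map_commutator, eq_bot_iff, ← hq]
  have hz : (Subgroup.zpowers (⟨x, hXM hx⟩ : ↥M)).map M.subtype ≤ X := by
    rw [MonoidHom.map_zpowers]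
    exact (Subgroup.zpowers_le).mpr hx
  exact Subgroup.commutator_mono (Subgroup.commutator_mono le_rfl hz) hz

end Cfsg.Agent.Lib.Helper66.PP
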