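import Mathlib
import Cfsg.Agent.Lib.Helper2.PP.Defs
import Cfsg.Agent.Lib.Helper66.PP.T
import Cfsg.Agent.Lib.Helper66.PP.F1

set_option autoImplicit false

/-!
# Packages [T] and [F1] of the S3753 project (statements in `Helper2.PP.Defs`)
-/

namespace Cfsg.Agent.Lib.Helper66.PP

open scoped commutatorElement
open Cfsg.Agent.Lib.Helper2.PP

universe u

/-- **[F1]** -/
theorem pkgF1 : PkgF1.{u} := by
  intro G _ _ p _ hp M X h2 hc hXM hq
  exact lemF1 hp M h2 hc X hXM hq

/-- **[T]** -/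
theorem pkgT : PkgT.{u} := by
  intro G _ _ p _ M C O X hCO hOM hCn hOn hOC hXO hX hXC
  have hCn' : (C.subgroupOf M).Normal := ⟨fun c hc m => by
    rw [Subgroup.mem_subgroupOf] at hc ⊢
    simpa using hCn m m.2 c hc⟩
  have hOn' : (O.subgroupOf M).Normal := ⟨fun d hd m => by
    rw [Subgroup.mem_subgroupOf] at hd ⊢
    simpa using hOn m m.2 d hd⟩
  have key := lemT (M := ↥M) (p := p) (C.subgroupOf M) (O.subgroupOf M) (X.subgroupOf M)
    (by
      intro x hx
      obtain ⟨k, hk⟩ := hOC x (Subgroup.mem_subgroupOf.mp hx)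
      exact ⟨k, by rw [Subgroup.mem_subgroupOf]; simpa using hk⟩)
    hX.comap_subtype
    (fun x hx => Subgroup.mem_subgroupOf.mpr (hXO (Subgroup.mem_subgroupOf.mp hx)))
    (by
      intro x hx c hc
      have h1 : ⁅(x : G), (c : G)⁆ ∈ Qof p M :=
        hXC (Subgroup.commutator_mem_commutator (Subgroup.mem_subgroupOf.mp hx)
          (Subgroup.mem_subgroupOf.mp hc))
      obtain ⟨y, hy, hyeq⟩ := h1
      have : y = ⁅x, c⁆ := Subtype.ext (by
        rw [← Subgroup.coe_subtype, hyeq]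
        simp [commutatorElement_def])
      rw [← this]
      exact hy)
  intro x hx
  exact ⟨⟨x, hOM (hXO hx)⟩, key (Subgroup.mem_subgroupOf.mpr hx), rfl⟩

end Cfsg.Agent.Lib.Helper66.PP
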